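import Cfsg.Agent.Lib.Helper17.E8I.DefsE
import Cfsg.Agent.Lib.Helper37.E8I.M1

set_option autoImplicit false

/-! Piece M2 of the farm E8I (helper17, S2176): a monomial element mapping `lp S17 c` to `lp S17 c'`
maps the support onto the support. -/

namespace Cfsg.Agent.Lib.Helper37.E8I

open Cfsg.Lie Cfsg.Agent.Lib.Helper18 Cfsg.Agent.Lib.Helper17 Cfsg.Agent.Lib.Helper36
  Cfsg.Agent.Lib.Helper6 Matrix Cfsg.Agent.Lib.Helper17.E8I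

variable {F : Type*} [Field F] (hB : Base chevE8 F)

/-- Weyl words keeping `S17` positive and separating it from the other roots -/
def M2_Ls : List (List ℕ) :=
  [[],
    [6,5,3,7,6,4,2,0,3,5,4,2,3,6,5,4,0,7,2,6,5,1,3,4,1,2,3,0,7,2,6,1,7,0,3,5,6,1,7,2,4],
    [7,3,0,6,1,2,3,0,4,2,1,3,5,2,1,4,3,0,2,3,4,1,3,1,5,7,6,0,4,3,2,7,1,5,0,3,1],
    [6,5,7,6,0,4,2,5,3,1,4,7,3,6,2,5,0,4,1,3,5,2,1,3,4,5,7,6,1,3,1],
    [6,5,7,4,3,0,6,2,5,4,1,3,1,2,6,5,4,6,3,7,5,6,4,5,4,1,0,3,2,1,7,4,0,3,6,4,7,5,4,6],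
    [7,6,0,5,7,2,1,6,4,3,5,1,4,0,2,3,7,0,6,2,5,1,4,7,6,3,2,5,7,4,5,1,0,3],
    [2,6,5,4,7,0,2,6,5,1,6,3,4,1,7,2,3,1,2,5,4,3,6,5,4,3,0,6,1,2,3,2,5,1,6,4]]

theorem M2_tabA : ∀ L ∈ M2_Ls, (∀ i ∈ L, i < chevE8.rank) ∧
    ∀ s ∈ S17, chevE8.IsPosRoot (wAct chevE8 L s) := by
  decide +kernel

theorem M2_tabB_c0 : ∀ r : Fin 240, r.val < 130 → (∀ L ∈ M2_Ls, chevE8.IsPosRoot (wAct chevE8 L r)) → r.val ∈ S17 := by
  decide +kernel

theorem M2_tabB_c1 : ∀ r : Fin 240, 130 ≤ r.val → r.val < 145 → (∀ L ∈ M2_Ls, chevE8.IsPosRoot (wAct chevE8 L r)) → r.val ∈ S17 := by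
  decide +kernel

theorem M2_tabB_c2 : ∀ r : Fin 240, 145 ≤ r.val → r.val < 160 → (∀ L ∈ M2_Ls, chevE8.IsPosRoot (wAct chevE8 L r)) → r.val ∈ S17 := by
  decide +kernel

theorem M2_tabB_c3 : ∀ r : Fin 240, 160 ≤ r.val → r.val < 175 → (∀ L ∈ M2_Ls, chevE8.IsPosRoot (wAct chevE8 L r)) → r.val ∈ S17 := by
  decide +kernel

theorem M2_tabB_c4 : ∀ r : Fin 240, 175 ≤ r.val → r.val < 190 → (∀ L ∈ M2_Ls, chevE8.IsPosRoot (wAct chevE8 L r)) → r.val ∈ S17 := by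
  decide +kernel

theorem M2_tabB_c5 : ∀ r : Fin 240, 190 ≤ r.val → r.val < 205 → (∀ L ∈ M2_Ls, chevE8.IsPosRoot (wAct chevE8 L r)) → r.val ∈ S17 := by
  decide +kernel

theorem M2_tabB_c6 : ∀ r : Fin 240, 205 ≤ r.val → r.val < 220 → (∀ L ∈ M2_Ls, chevE8.IsPosRoot (wAct chevE8 L r)) → r.val ∈ S17 := by
  decide +kernel

theorem M2_tabB_c7 : ∀ r : Fin 240, 220 ≤ r.val → (∀ L ∈ M2_Ls, chevE8.IsPosRoot (wAct chevE8 L r)) → r.val ∈ S17 := by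
  decide +kernel

theorem M2_tabB : ∀ r : Fin 240, (∀ L ∈ M2_Ls, chevE8.IsPosRoot (wAct chevE8 L r)) → r.val ∈ S17 := by
  intro r
  rcases lt_or_ge r.val 130 with h0 | h0
  · exact M2_tabB_c0 r h0
  rcases lt_or_ge r.val 145 with h1 | h1
  · exact M2_tabB_c1 r h0 h1
  rcases lt_or_ge r.val 160 with h2 | h2
  · exact M2_tabB_c2 r h1 h2
  rcases lt_or_ge r.val 175 with h3 | h3
  · exact M2_tabB_c3 r h2 h3
  rcases lt_or_ge r.val 190 with h4 | h4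
  · exact M2_tabB_c4 r h3 h4
  rcases lt_or_ge r.val 205 with h5 | h5
  · exact M2_tabB_c5 r h4 h5
  rcases lt_or_ge r.val 220 with h6 | h6
  · exact M2_tabB_c6 r h5 h6
  exact M2_tabB_c7 r h6

theorem M2_S17_pos : ∀ r ∈ S17, chevE8.IsPosRoot r := by
  decide +kernel

/-- the subgroup of the products supported on a set of roots -/
def M2_Sg (T : ℕ → Prop) : Subgroup (GL chevE8.Idx F) where
  carrier := {g | ∃ d : ℕ → F, (∀ s, d s ≠ 0 → T s) ∧ g = CG.lp hB S17 d}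
  mul_mem' := by
    rintro _ _ ⟨d, hd, rfl⟩ ⟨d', hd', rfl⟩
    refine ⟨fun s => d s + d' s, ?_, M1_lp_mul hB (M1_PC hB) d d'⟩
    intro s hs
    by_cases h : d s = 0
    · apply hd'
      intro h'
      exact hs (by show d s + d' s = 0; rw [h, h', add_zero])
    · exact hd s h
  one_mem' := ⟨fun _ => 0, fun s hs => absurd rfl hs, (CG.lp_zero hB S17).symm⟩
  inv_mem' := by
    rintro _ ⟨d, hd, rfl⟩
    refine ⟨fun s => - d s, fun s hs => hd s (fun h => hs (by show - d s = 0; rw [h, neg_zero])), ?_⟩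
    rw [inv_eq_iff_mul_eq_one, M1_lp_mul hB (M1_PC hB)]
    simp only [add_neg_cancel]
    exact CG.lp_zero hB S17

theorem supp_S17 {n : GL chevE8.Idx F} {π : ℕ → ℕ} (hn : CG.GAct hB n π) {c c' : ℕ → F}
    (h : n * CG.lp hB S17 c * n⁻¹ = CG.lp hB S17 c') :
    ∀ s' ∈ S17, c' s' ≠ 0 → ∃ s ∈ S17, c s ≠ 0 ∧ π s = s' := by
  have hsort : S17.Pairwise (· < ·) := by decide
  have h1 : ∀ s ∈ S17, c s ≠ 0 → π s ∈ S17 := by
    intro s hs hcs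
    have hlt : π s < 240 := (hn s (M2_S17_pos s hs).1).1
    apply M2_tabB ⟨π s, hlt⟩
    intro L hL
    exact CG.pos_of_word hB M1_mem hn M2_S17_pos hsort (M1_PC hB) h (M2_tabA L hL).1
      (M2_tabA L hL).2 s hs hcs
  have h2 : n * CG.lp hB S17 c * n⁻¹ ∈ M2_Sg hB (fun s' => ∃ s ∈ S17, c s ≠ 0 ∧ π s = s') := by
    apply CG.lp_conj_mem hB hn _ (fun s hs => (M2_S17_pos s hs).1)
    intro s hs hcs t
    refine ⟨CG.upd (fun _ => 0) (π s) t, ?_, ?_⟩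
    · intro x hx
      by_cases hxs : x = π s
      · exact ⟨s, hs, hcs, hxs.symm⟩
      · simp [CG.upd, hxs] at hx
    · rw [← CG.lp_mul_single hB (by decide) (h1 s hs hcs)
        (fun x hx e u => M1_PC hB _ (h1 s hs hcs) x hx e u), CG.lp_zero, one_mul]
  obtain ⟨d, hd, e⟩ := h2
  rw [h] at e
  intro s' hs' hc'
  apply hd
  rw [← CG.lp_inj hB M1_mem M2_S17_pos hsort e s' hs']
  exact hc'

end Cfsg.Agent.Lib.Helper37.E8I
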